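import Groth.Agent.ToposColim.Main

/-!
Cohomology and filtered colimits for a class of quasi-compact objects with a cofinal system of coverings
whose Čech nerves stay in the class.
-/

set_option backward.isDefEq.respectTransparency false
set_option backward.isDefEq.respectTransparency.types false
set_option linter.style.haveILetI false
set_option linter.unusedSectionVars false
set_option autoImplicit false
set_option maxHeartbeats 1000000

universe u

namespace Groth.Agent.CovColim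

open CategoryTheory Category Limits Opposite Abelian AlgebraicTopology Simplicial
open ToposFin
open Groth.Agent.QCTopos
open Groth.Agent.SiteCoh Groth.Agent.W7TotAcyc Groth.Agent.ToposColim

variable {C : Type u} [SmallCategory C] {J : GrothendieckTopology C}

/-- a finite decomposition into members of a class -/
def Dec (A : Sh J → Prop) (W : Sh J) : Prop :=
  ∃ (κ : Type u) (_ : Finite κ) (G : κ → Sh J) (π : ∀ k, G k ⟶ W), (∀ k, A (G k)) ∧ JS π ∧
    ∀ (Z : Sh J) (v : ∀ k, G k ⟶ Z), ∃ g : W ⟶ Z, ∀ k, π k ≫ g = v k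

lemma Dec.of_mem {A : Sh J → Prop} {W : Sh J} (h : A W) : Dec A W :=
  ⟨PUnit, inferInstance, fun _ => W, fun _ => 𝟙 W, fun _ => h, js_of_epi.{u, u} (𝟙 W), fun _ v => ⟨v ⟨⟩, fun _ => id_comp _⟩⟩

lemma Dec.qc {A : Sh J → Prop} {W : Sh J} (h : Dec A W) (hA : ∀ L, A L → IsQC L) : IsQC W := by
  obtain ⟨κ, _, G, π, hG, hπ, -⟩ := h
  exact qc_of_finite_js hπ fun k => hA _ (hG k)

/-- maps out of the free sheaf on a decomposed object are defined piecewise -/
lemma fr_desc {κ : Type u} {G : κ → Sh J} {W : Sh J} {π : ∀ k, G k ⟶ W}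
    (hd : ∀ (Z : Sh J) (v : ∀ k, G k ⟶ Z), ∃ g : W ⟶ Z, ∀ k, π k ≫ g = v k)
    {X : Sheaf J AddCommGrpCat.{u}} (v : ∀ k, (FR J).obj (G k) ⟶ X) :
    ∃ g : (FR J).obj W ⟶ X, ∀ k, (FR J).map (π k) ≫ g = v k := by
  obtain ⟨g, hg⟩ := hd _ fun k => frHom _ _ (v k)
  refine ⟨(frHom W X).symm g, fun k => (frHom _ _).injective ?_⟩
  refine (frHom_natK _ _).trans ?_
  rw [Equiv.apply_symm_apply]
  exact hg k

lemma fr_hom_ext {κ : Type u} {G : κ → Sh J} {W : Sh J} {π : ∀ k, G k ⟶ W} (hπ : JS π)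
    {X : Sheaf J AddCommGrpCat.{u}} {a b : (FR J).obj W ⟶ X}
    (h : ∀ k, (FR J).map (π k) ≫ a = (FR J).map (π k) ≫ b) : a = b :=
  (frHom W X).injective (hπ.cancel fun k => (frHom_natK _ _).symm.trans ((congrArg (frHom _ _) (h k)).trans (frHom_natK _ _)))

/-- quasi-compact objects with cofinal coverings whose nerves stay in the class -/
structure CovSys (A : Sh J → Prop) (T : ∀ {L' L : Sh J}, (L' ⟶ L) → Prop) : Prop where
  qc : ∀ L, A L → IsQC L
  nerve : ∀ {L' L : Sh J} (t : L' ⟶ L), T t → ∀ n : ℕ, Dec A ((Arrow.mk t).cechNerve.obj (op ⦋n⦌))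
  refine : ∀ {L : Sh J}, A L → ∀ {B : Sh J} (p : B ⟶ L), Epi p →
    ∃ (L' : Sh J) (t : L' ⟶ L) (r : L' ⟶ B), r ≫ p = t ∧ Epi t ∧ T t

variable {A : Sh J → Prop} {T : ∀ {L' L : Sh J}, (L' ⟶ L) → Prop}
  {I : Type u} [SmallCategory I] [IsFiltered I] {D : I ⥤ Sheaf J AddCommGrpCat.{u}} {c : Cocone D}

/-- maps on a quasi-compact object that die in the colimit die at a stage -/
theorem stage_inj_qc {X : Sh J} (hX : IsQC X) (hc : IsColimit c) {i : I} (ψ : (FR J).obj X ⟶ D.obj i)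
    (h : ψ ≫ c.ι.app i = 0) : ∃ (j : I) (a : i ⟶ j), ψ ≫ D.map a = 0 := by
  haveI := preservesColimitsOfShape_uSet (J := J) I
  let D' := D ⋙ uSet J
  let hc' := isColimitOfPreserves (uSet J) hc
  let e := (colimit.isColimit D').coconePointUniqueUpToIso hc'
  let z : (FR J).obj X ⟶ D.obj i := 0
  have he : frHom X _ ψ ≫ colimit.ι D' i = frHom X _ z ≫ colimit.ι D' i := by
    rw [← cancel_mono e.hom, Category.assoc, Category.assoc]
    have w := IsColimit.comp_coconePointUniqueUpToIso_hom (colimit.isColimit D') hc' i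
    refine (congrArg (frHom X _ ψ ≫ ·) w).trans (Eq.trans ?_ (congrArg (frHom X _ z ≫ ·) w).symm)
    show frHom X _ ψ ≫ (uSet J).map (c.ι.app i) = frHom X _ z ≫ (uSet J).map (c.ι.app i)
    rw [← frHom_comp, ← frHom_comp, h, zero_comp]
  have e' : colimit.ι (D' ⋙ coyoneda.obj (op X)) i (frHom X _ ψ) = colimit.ι (D' ⋙ coyoneda.obj (op X)) i (frHom X _ z) := by
    refine injective_post_of_qc hX I D' ?_
    exact (ConcreteCategory.congr_hom (colimit.ι_post D' (coyoneda.obj (op X)) i) _).trans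
      (he.trans (ConcreteCategory.congr_hom (colimit.ι_post D' (coyoneda.obj (op X)) i) _).symm)
  obtain ⟨j, a, ha⟩ := (Types.FilteredColimit.isColimit_eq_iff' (colimit.isColimit (D' ⋙ coyoneda.obj (op X))) (i := i) _ _).1 e'
  refine ⟨j, a, (frHom X _).injective ?_⟩
  have ha' : frHom X _ ψ ≫ (uSet J).map (D.map a) = frHom X _ z ≫ (uSet J).map (D.map a) := ha
  rw [frHom_comp, ha', ← frHom_comp, zero_comp]

/-- descent of a lift on the first term of the nerve -/
lemma zeroth {L' L : Sh J} (t : L' ⟶ L) {F : Sheaf J AddCommGrpCat.{u}} {B : Sh J} {G : Sheaf J AddCommGrpCat.{u}}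
    (g : F ⟶ G) (φ : (FR J).obj L ⟶ G) (r : L' ⟶ B) (b : B ⟶ (uSet J).obj F) (p : B ⟶ L)
    (hr : r ≫ p = t) (hb : b ≫ (uSet J).map g = p ≫ frHom L _ φ) :
    ∃ a : (cP t).X 0 ⟶ F, a ≫ g = eps0 t ≫ φ := by
  let q := WidePullback.π (B := (Arrow.mk t).right) (objs := fun _ : Fin 1 => (Arrow.mk t).left)
    (fun _ => (Arrow.mk t).hom) 0
  refine ⟨(frHom ((Arrow.mk t).cechNerve.obj (op ⦋0⦌)) _).symm (q ≫ r ≫ b), ?_⟩
  have hbase : ((Arrow.mk t).augmentedCechNerve.hom.app (op ⦋0⦌)) = q ≫ t :=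
    (WidePullback.π_arrow _ _).symm
  apply (frHom ((Arrow.mk t).cechNerve.obj (op ⦋0⦌)) _).injective
  refine (frHom_comp _ _).trans (Eq.trans ?_ (frHom_natK _ _).symm)
  rw [Equiv.apply_symm_apply, hbase]
  have e : (r ≫ b) ≫ (uSet J).map g = t ≫ frHom L _ φ := by rw [← hr, assoc, assoc, hb]
  exact (assoc _ _ _).trans ((congrArg (q ≫ ·) e).trans (assoc _ _ _).symm)

/-- maps out of members into a filtered colimit come from a stage -/
theorem stage_surj (h : CovSys A T) {L : Sh J} (hL : A L) (hc : IsColimit c) (φ : (FR J).obj L ⟶ c.pt) :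
    ∃ (i : I) (ψ : (FR J).obj L ⟶ D.obj i), ψ ≫ c.ι.app i = φ := by
  classical
  haveI := preservesColimitsOfShape_uSet (J := J) I
  let hc' := isColimitOfPreserves (uSet J) hc
  have hjs : JS fun i => (uSet J).map (c.ι.app i) := js_of_cancel fun Z a b hab => hc'.hom_ext hab
  obtain ⟨s, hs⟩ := qc_iff.1 (h.qc L hL) _ _ _ (hjs.pullback_fst (frHom L _ φ))
  obtain ⟨k, hk⟩ := IsFiltered.sup_objs_exists s
  have hepi : Epi (pullback.fst (frHom L _ φ) ((uSet J).map (c.ι.app k))) := by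
    refine ⟨fun {Z} a b hab => hs.cancel fun i => ?_⟩
    let f := (hk i.2).some
    let m : pullback (frHom L _ φ) ((uSet J).map (c.ι.app i.1)) ⟶ pullback (frHom L _ φ) ((uSet J).map (c.ι.app k)) :=
      pullback.lift (pullback.fst _ _) (pullback.snd _ _ ≫ (uSet J).map (D.map f))
        (by rw [assoc, ← (uSet J).map_comp, c.w f]; exact pullback.condition)
    have := congrArg (m ≫ ·) hab
    simp only [m, pullback.lift_fst_assoc] at this
    exact this
  obtain ⟨L', t, r, hr, ht, hT⟩ := h.refine hL _ hepi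
  haveI := ht
  obtain ⟨a, ha⟩ := zeroth t (c.ι.app k) φ r (pullback.snd _ _) _ hr pullback.condition.symm
  obtain ⟨j, f, hf⟩ := stage_inj_qc ((h.nerve t hT 1).qc h.qc) hc ((cP t).d 1 0 ≫ a)
    (by rw [assoc, ha, ← assoc, d_eps, zero_comp])
  obtain ⟨ψ, hψ⟩ := factor_zero t (a ≫ D.map f) (by rw [← assoc]; exact hf)
  haveI := epi_eps0 t
  refine ⟨j, ψ, (cancel_epi (eps0 t)).mp ?_⟩
  rw [← assoc, hψ, assoc, c.w, ha]

/-- maps out of decomposed objects into a filtered colimit come from a stage -/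
theorem stage_surj_dec (h : CovSys A T) {W : Sh J} (hW : Dec A W) (hc : IsColimit c) (φ : (FR J).obj W ⟶ c.pt) :
    ∃ (i : I) (ψ : (FR J).obj W ⟶ D.obj i), ψ ≫ c.ι.app i = φ := by
  classical
  obtain ⟨κ, _, G, π, hG, hπ, hd⟩ := hW
  cases nonempty_fintype κ
  choose i ψ hψ using fun k => stage_surj h (hG k) hc ((FR J).map (π k) ≫ φ)
  obtain ⟨m, hm⟩ := IsFiltered.sup_objs_exists (Finset.univ.image i)
  obtain ⟨g, hg⟩ := fr_desc hd fun k => ψ k ≫ D.map (hm (Finset.mem_image_of_mem i (Finset.mem_univ k))).some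
  refine ⟨m, g, fr_hom_ext hπ fun k => ?_⟩
  rw [← assoc, hg, assoc, c.w, hψ]

/-- exactness of the Čech complexes of the coverings -/
def Good (T : ∀ {L' L : Sh J}, (L' ⟶ L) → Prop) (F : Sheaf J AddCommGrpCat.{u}) : Prop :=
  ∀ (L' L : Sh J) (t : L' ⟶ L), Epi t → T t → ∀ n, CEx t F n

lemma good_of_isColimit (h : CovSys A T) (hc : IsColimit c) (hD : ∀ i, Good T (D.obj i)) : Good T c.pt :=
  fun L' L t ht hT n x hx => by
  obtain ⟨i, ψ, hψ⟩ := stage_surj_dec h (h.nerve t hT (n + 1)) hc x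
  obtain ⟨j, a, ha⟩ := stage_inj_qc ((h.nerve t hT (n + 2)).qc h.qc) hc ((cP t).d (n + 2) (n + 1) ≫ ψ) (by
    rw [assoc, hψ, hx])
  obtain ⟨y, hy⟩ := hD j L' L t ht hT n (ψ ≫ D.map a) (by rw [← assoc]; exact ha)
  refine ⟨y ≫ c.ι.app j, ?_⟩
  rw [← assoc, hy, assoc, c.w, hψ]

lemma ext_one_of_good (h : CovSys A T) {F : Sheaf J AddCommGrpCat.{u}} (hF : Good T F) {L : Sh J} (hL : A L) :
    Subsingleton (Ext ((FR J).obj L) F 1) := by
  have hS := embedSeq_shortExact F
  refine subsingleton_ext_one_of_lift hS ((FR J).obj L) fun φ => ?_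
  haveI := hS.mono_f
  haveI := hS.epi_g
  haveI : Sheaf.IsLocallySurjective (embedSeq F).g :=
    (Sheaf.isLocallySurjective_iff_epi' (A := AddCommGrpCat.{u}) (embedSeq F).g).mpr inferInstance
  haveI : Sheaf.IsLocallySurjective ((uSet J).map (embedSeq F).g) :=
    (Presheaf.isLocallySurjective_iff_whisker_forget J (embedSeq F).g.hom).mp inferInstance
  haveI : Epi (pullback.fst (frHom L _ φ) ((uSet J).map (embedSeq F).g)) := epi_fst _ _
  obtain ⟨L', t, r, hr, ht, hT⟩ := h.refine hL (pullback.fst (frHom L _ φ) ((uSet J).map (embedSeq F).g)) inferInstance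
  haveI := ht
  obtain ⟨a, ha⟩ := zeroth t (embedSeq F).g φ r (pullback.snd _ _) _ hr pullback.condition.symm
  obtain ⟨w, hw⟩ := KernelFork.IsLimit.lift' hS.fIsKernel ((cP t).d 1 0 ≫ a)
    (by rw [Category.assoc, ha, ← Category.assoc, d_eps, zero_comp])
  have hw' : w ≫ (embedSeq F).f = (cP t).d 1 0 ≫ a := hw
  obtain ⟨v, hv⟩ := hF _ _ t ht hT 0 w ((cancel_mono (embedSeq F).f).mp (by
    rw [Category.assoc, hw', dd, zero_comp]))
  obtain ⟨ψ, hψ⟩ := factor_zero t (a - v ≫ (embedSeq F).f)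
    (by rw [Preadditive.comp_sub, ← hw', ← hv, Category.assoc, sub_self])
  haveI := epi_eps0 t
  refine ⟨ψ, (cancel_epi (eps0 t)).mp ?_⟩
  rw [← Category.assoc, hψ, Preadditive.sub_comp, Category.assoc, (embedSeq F).zero, comp_zero,
    sub_zero, ha]

lemma ext_one_dec (h : CovSys A T) {F : Sheaf J AddCommGrpCat.{u}} (hF : Good T F) {W : Sh J} (hW : Dec A W) :
    Subsingleton (Ext ((FR J).obj W) F 1) := by
  obtain ⟨κ, _, G, π, hG, hπ, hd⟩ := hW
  have hS := embedSeq_shortExact F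
  refine subsingleton_ext_one_of_lift hS ((FR J).obj W) fun φ => ?_
  choose ψ hψ using fun k => @exists_lift_of_subsingleton_ext_one _ _ _ _ _ hS ((FR J).obj (G k))
    (ext_one_of_good h hF (hG k)) ((FR J).map (π k) ≫ φ)
  obtain ⟨g, hg⟩ := fr_desc hd ψ
  exact ⟨g, fr_hom_ext hπ fun k => by rw [← assoc, hg, hψ]⟩

lemma good_quotient (h : CovSys A T) {F : Sheaf J AddCommGrpCat.{u}} (hF : Good T F) : Good T (embedSeq F).X₃ := by
  intro L' L t ht hT n x hx
  have hS := embedSeq_shortExact F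
  haveI := hS.mono_f
  haveI := ht
  have : Subsingleton (Ext ((cP t).X (n + 1)) (embedSeq F).X₁ 1) :=
    ext_one_dec h hF (h.nerve t hT (n + 1))
  obtain ⟨x', hx'⟩ := exists_lift_of_subsingleton_ext_one hS ((cP t).X (n + 1)) x
  obtain ⟨w, hw⟩ := KernelFork.IsLimit.lift' hS.fIsKernel ((cP t).d (n + 2) (n + 1) ≫ x')
    (by rw [Category.assoc, hx', hx])
  have hw' : w ≫ (embedSeq F).f = (cP t).d (n + 2) (n + 1) ≫ x' := hw
  obtain ⟨v, hv⟩ := hF L' L t ht hT (n + 1) w ((cancel_mono (embedSeq F).f).mp (by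
    rw [Category.assoc, hw', dd, zero_comp]))
  obtain ⟨y, hy⟩ := cex_injective t (embedSeq F).X₂ n (x' - v ≫ (embedSeq F).f)
    (by rw [Preadditive.comp_sub, ← hw', ← hv, Category.assoc, sub_self])
  exact ⟨y ≫ (embedSeq F).g, by
    rw [← Category.assoc, hy, Preadditive.sub_comp, Category.assoc, (embedSeq F).zero, comp_zero,
      sub_zero, hx']⟩

theorem acyclic_of_good (h : CovSys A T) {F : Sheaf J AddCommGrpCat.{u}} (hF : Good T F) {L : Sh J} (hL : A L)
    (p : ℕ) : Subsingleton (Ext ((FR J).obj L) F (p + 1)) := by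
  induction p generalizing F with
  | zero => exact ext_one_of_good h hF hL
  | succ p ih =>
    have : Subsingleton (Ext ((FR J).obj L) (embedSeq F).X₃ (p + 1)) := ih (good_quotient h hF)
    exact subsingleton_ext_succ (embedSeq_shortExact F) ((FR J).obj L) (p + 1)

variable {Λ : Type u} [SmallCategory Λ] [IsFiltered Λ]

theorem preservesColimitsOfShape_hk (h : CovSys A T) {L : Sh J} (hL : A L) (q : ℕ) :
    PreservesColimitsOfShape Λ (ToposFin.HKFunctor L q) :=
  preservesColimitsOfShape_extFunctor ((FR J).obj L) (fun F φ => stage_surj h hL (colimit.isColimit F) φ)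
    (fun F _ ψ hψ => stage_inj_qc (h.qc L hL) (colimit.isColimit F) ψ hψ)
    (fun F hF q => acyclic_of_good h (good_of_isColimit h (colimit.isColimit F) fun i => fun _ _ t _ _ n => by
      haveI := hF i
      exact cex_injective t (F.obj i) n) hL q) q

end Groth.Agent.CovColim
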