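import Groth.Agent.CovColim.Basic

/-!
The covering system of a collection of quasi-compact objects covering products and equalisers.
-/

set_option backward.isDefEq.respectTransparency false
set_option backward.isDefEq.respectTransparency.types false
set_option linter.style.haveILetI false
set_option linter.unusedSectionVars false
set_option autoImplicit false
set_option maxHeartbeats 1000000

universe u

namespace Groth.Agent.CovColim

open CategoryTheory Category Limits Opposite AlgebraicTopology Simplicial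
open ToposFin
open Groth.Agent.QCTopos

variable {C : Type u} [SmallCategory C] {J : GrothendieckTopology C} {S : Set (Sh J)}

variable (S) in
/-- covered by a member -/
def Covd (W : Sh J) : Prop := ∃ (K : Sh J) (e : K ⟶ W), K ∈ S ∧ Epi e

variable (S) in
/-- covered by a member, with fibre products of members over it covered by members -/
def Sqc (W : Sh J) : Prop :=
  Covd S W ∧ ∀ (K K' : Sh J) (a : K ⟶ W) (b : K' ⟶ W), K ∈ S → K' ∈ S → Covd S (pullback a b)

lemma epi_pullback_snd {X Y Z : Sh J} (f : X ⟶ Z) (g : Y ⟶ Z) [Epi f] : Epi (pullback.snd f g) :=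
  ⟨fun a b h => ((js_of_epi.{u, u} f).pullback_snd g).cancel fun _ => h⟩

lemma epi_pullback_fst {X Y Z : Sh J} (f : X ⟶ Z) (g : Y ⟶ Z) [Epi g] : Epi (pullback.fst f g) :=
  ⟨fun a b h => ((js_of_epi.{u, u} g).pullback_fst f).cancel fun _ => h⟩

lemma Covd.of_epi {W W' : Sh J} (h : Covd S W) (f : W ⟶ W') [Epi f] : Covd S W' := by
  obtain ⟨K, e, hK, he⟩ := h
  haveI := he
  exact ⟨K, e ≫ f, hK, epi_comp e f⟩

/-- covering a subobject cut out by one equation -/
lemma covd_of_mono (h4 : ∀ K ∈ S, ∀ K' ∈ S, ∀ (a b : K ⟶ K'), Covd S (equalizer a b))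
    {P Q R M : Sh J} (m : P ⟶ Q) [Mono m] (r : R ⟶ Q) [Epi r] (hR : R ∈ S) (hM : M ∈ S) (f g : R ⟶ M)
    (hm : ∀ (T : Sh J) (z : T ⟶ P) (y : T ⟶ R), y ≫ r = z ≫ m → y ≫ f = y ≫ g)
    (hlift : ∀ (T : Sh J) (y : T ⟶ R), y ≫ f = y ≫ g → ∃ z : T ⟶ P, z ≫ m = y ≫ r) : Covd S P := by
  obtain ⟨z, hz⟩ := hlift _ (equalizer.ι f g) (equalizer.condition f g)
  let v : equalizer f g ⟶ pullback r m := pullback.lift (equalizer.ι f g) z hz.symm
  let w : pullback r m ⟶ equalizer f g := equalizer.lift (pullback.fst r m) (hm _ (pullback.snd r m) _ pullback.condition)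
  have hwv : w ≫ v = 𝟙 _ := by
    apply pullback.hom_ext
    · simp [v, w]
    · rw [← cancel_mono m]
      simp [v, w, hz, pullback.condition]
  haveI : IsSplitEpi v := IsSplitEpi.mk' ⟨w, hwv⟩
  haveI : Epi (pullback.snd r m) := epi_pullback_snd r m
  exact (h4 R hR M hM f g).of_epi (v ≫ pullback.snd r m)

variable (h3 : ∀ K ∈ S, ∀ K' ∈ S, Covd S (K ⨯ K'))
  (h4 : ∀ K ∈ S, ∀ K' ∈ S, ∀ (a b : K ⟶ K'), Covd S (equalizer a b))

include h3 h4 in
lemma sqc_of_mem {M : Sh J} (hM : M ∈ S) : Sqc S M := by
  refine ⟨⟨M, 𝟙 M, hM, inferInstance⟩, fun K K' a b hK hK' => ?_⟩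
  obtain ⟨R, r, hR, hr⟩ := h3 K hK K' hK'
  haveI := hr
  let m : pullback a b ⟶ K ⨯ K' := prod.lift (pullback.fst a b) (pullback.snd a b)
  haveI : Mono m := ⟨fun x y hxy => by
    apply pullback.hom_ext
    · simpa [m] using congrArg (· ≫ prod.fst) hxy
    · simpa [m] using congrArg (· ≫ prod.snd) hxy⟩
  refine covd_of_mono h4 m r hR hM (r ≫ prod.fst ≫ a) (r ≫ prod.snd ≫ b) (fun T z y h => ?_) fun T y h => ?_
  · simp only [← assoc, h]
    simp [m, pullback.condition]
  · exact ⟨pullback.lift (y ≫ r ≫ prod.fst) (y ≫ r ≫ prod.snd) (by simpa using h), by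
      apply Limits.prod.hom_ext <;> simp [m]⟩

include h4 in
lemma sqc_pullback {V L K : Sh J} (b : V ⟶ L) (t : K ⟶ L) (hV : Sqc S V) (hL : Sqc S L) (hK : K ∈ S) :
    Sqc S (pullback b t) := by
  refine ⟨?_, fun Q Q' x y hQ hQ' => ?_⟩
  · obtain ⟨Q, e, hQ, he⟩ := hV.1
    haveI := he
    let φ : pullback (e ≫ b) t ⟶ pullback b t :=
      pullback.lift (pullback.fst _ _ ≫ e) (pullback.snd _ _) (by rw [assoc]; exact pullback.condition)
    haveI : Epi φ := by
      let ψ : pullback e (pullback.fst b t) ⟶ pullback (e ≫ b) t :=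
        pullback.lift (pullback.fst _ _) (pullback.snd _ _ ≫ pullback.snd b t) (by
          rw [pullback.condition_assoc, pullback.condition, assoc])
      haveI := epi_pullback_snd e (pullback.fst b t)
      have : ψ ≫ φ = pullback.snd e (pullback.fst b t) := by
        apply pullback.hom_ext <;> simp [ψ, φ, pullback.condition]
      exact epi_of_epi_fac this
    exact (hL.2 Q K (e ≫ b) t hQ hK).of_epi φ
  · obtain ⟨R, r, hR, hr⟩ := hV.2 Q Q' (x ≫ pullback.fst b t) (y ≫ pullback.fst b t) hQ hQ'
    haveI := hr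
    let m : pullback x y ⟶ pullback (x ≫ pullback.fst b t) (y ≫ pullback.fst b t) :=
      pullback.lift (pullback.fst x y) (pullback.snd x y) (by rw [pullback.condition_assoc])
    haveI : Mono m := ⟨fun p q hpq => by
      apply pullback.hom_ext
      · simpa [m] using congrArg (· ≫ pullback.fst _ _) hpq
      · simpa [m] using congrArg (· ≫ pullback.snd _ _) hpq⟩
    refine covd_of_mono h4 m r hR hK (r ≫ pullback.fst _ _ ≫ x ≫ pullback.snd b t)
      (r ≫ pullback.snd _ _ ≫ y ≫ pullback.snd b t) (fun T z w h => ?_) fun T w h => ?_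
    · simp only [← assoc, h]
      simp [m, pullback.condition_assoc]
    · refine ⟨pullback.lift (w ≫ r ≫ pullback.fst _ _) (w ≫ r ≫ pullback.snd _ _) ?_, ?_⟩
      · apply pullback.hom_ext
        · simp only [assoc, pullback.condition]
        · simpa using h
      · apply pullback.hom_ext <;> simp [m]

include h3 h4 in
lemma sqc_nerve {L' L : Sh J} (t : L' ⟶ L) (hL' : L' ∈ S) (hL : Sqc S L) :
    ∀ n : ℕ, Sqc S (widePullback L (fun _ : Fin (n + 1) => L') fun _ => t) := by
  have hiso : ∀ {W W' : Sh J}, (W ≅ W') → Sqc S W → Sqc S W' := fun {W W'} e h => by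
    refine ⟨h.1.of_epi e.hom, fun K K' a b hK hK' => ?_⟩
    let φ : pullback (a ≫ e.inv) (b ≫ e.inv) ⟶ pullback a b :=
      pullback.lift (pullback.fst _ _) (pullback.snd _ _) ((cancel_mono e.inv).1 (by rw [assoc, assoc]; exact pullback.condition))
    haveI : IsSplitEpi φ := IsSplitEpi.mk' ⟨pullback.lift (pullback.fst a b) (pullback.snd a b) (by rw [pullback.condition_assoc]),
      by apply pullback.hom_ext <;> simp [φ]⟩
    exact (h.2 K K' _ _ hK hK').of_epi φ
  intro n
  induction n with
  | zero =>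
    let p := WidePullback.π (fun _ : Fin 1 => t) 0
    let s : L' ⟶ widePullback L (fun _ : Fin 1 => L') fun _ => t := WidePullback.lift t (fun _ => 𝟙 _) (fun _ => id_comp _)
    have h1 : p ≫ s = 𝟙 _ := WidePullback.hom_ext _ _ _
      (fun j => by obtain rfl := Subsingleton.elim j 0; rw [id_comp, assoc, WidePullback.lift_π, comp_id])
      (by rw [id_comp, assoc, WidePullback.lift_base]; exact WidePullback.π_arrow _ 0)
    exact hiso ⟨s, p, WidePullback.lift_π .., h1⟩ (sqc_of_mem h3 h4 hL')
  | succ n ih =>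
    let b := WidePullback.base (fun _ : Fin (n + 1) => t)
    let e₁ : widePullback L (fun _ : Fin (n + 1 + 1) => L') (fun _ => t) ⟶ pullback b t :=
      pullback.lift
        (WidePullback.lift (WidePullback.base _) (fun j : Fin (n + 1) => WidePullback.π _ j.castSucc)
          (fun j => WidePullback.π_arrow _ _))
        (WidePullback.π _ (Fin.last (n + 1))) (by rw [WidePullback.lift_base]; exact (WidePullback.π_arrow _ _).symm)
    let e₂ : pullback b t ⟶ widePullback L (fun _ : Fin (n + 1 + 1) => L') (fun _ => t) :=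
      WidePullback.lift (pullback.fst b t ≫ b)
        (Fin.lastCases (motive := fun _ => pullback b t ⟶ L') (pullback.snd b t)
          fun j => pullback.fst b t ≫ WidePullback.π _ j)
        (fun j => by
          induction j using Fin.lastCases with
          | last => rw [Fin.lastCases_last]; exact pullback.condition.symm
          | cast j => rw [Fin.lastCases_castSucc, assoc]; exact congrArg _ (WidePullback.π_arrow _ j))
    refine hiso
      { hom := e₂
        inv := e₁
        inv_hom_id := WidePullback.hom_ext _ _ _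
          (fun j => by
            induction j using Fin.lastCases with
            | last => rw [assoc, WidePullback.lift_π, Fin.lastCases_last, pullback.lift_snd, id_comp]
            | cast j => rw [assoc, WidePullback.lift_π, Fin.lastCases_castSucc, pullback.lift_fst_assoc,
                WidePullback.lift_π, id_comp])
          (by rw [assoc, WidePullback.lift_base, pullback.lift_fst_assoc, WidePullback.lift_base, id_comp])
        hom_inv_id := pullback.hom_ext
          (by
            rw [assoc, pullback.lift_fst, id_comp]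
            refine WidePullback.hom_ext _ _ _ (fun j => ?_) ?_
            · rw [assoc, WidePullback.lift_π, WidePullback.lift_π, Fin.lastCases_castSucc]
            · rw [assoc, WidePullback.lift_base, WidePullback.lift_base])
          (by rw [assoc, pullback.lift_snd, WidePullback.lift_π, Fin.lastCases_last, id_comp]) }
      (sqc_pullback h4 b t ih hL hL')

include h3 h4 in
theorem covSys (hqc : ∀ K ∈ S, IsQC K)
    (h2 : ∀ (F K : Sh J) (g : F ⟶ K), K ∈ S → Epi g → ∃ (K' : Sh J) (k : K' ⟶ F), K' ∈ S ∧ Epi (k ≫ g)) :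
    CovSys (Sqc S) (fun {L'} {L} (_ : L' ⟶ L) => L' ∈ S ∧ Sqc S L) where
  qc L hL := by
    obtain ⟨K, e, hK, he⟩ := hL.1
    haveI := he
    exact qc_of_epi e (hqc K hK)
  nerve t ht n := Dec.of_mem (sqc_nerve h3 h4 t ht.1 ht.2 n)
  refine {L} hL {B} p hp := by
    obtain ⟨K, e, hK, he⟩ := hL.1
    haveI := he
    haveI := hp
    obtain ⟨K', k, hK', hk⟩ := h2 _ _ (pullback.fst e p) hK (epi_pullback_fst e p)
    haveI := hk
    exact ⟨K', (k ≫ pullback.fst e p) ≫ e, k ≫ pullback.snd e p, by simp [pullback.condition], epi_comp _ _, hK', hL⟩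

include h3 in
lemma sqc_terminal (h1 : Covd S (⊤_ (Sh J))) : Sqc S (⊤_ (Sh J)) := by
  refine ⟨h1, fun K K' a b hK hK' => ?_⟩
  let φ : K ⨯ K' ⟶ pullback a b := pullback.lift prod.fst prod.snd (terminal.hom_ext _ _)
  haveI : IsSplitEpi φ := IsSplitEpi.mk' ⟨prod.lift (pullback.fst a b) (pullback.snd a b),
    by apply pullback.hom_ext <;> simp [φ]⟩
  exact (h3 K hK K' hK').of_epi φ

lemma qc_of_isQcObject {K : Sh J} (h : CohCx.IsQcObject K) : IsQC K := qc_iff.2 fun ι F π hπ => h ι F π hπ

end Groth.Agent.CovColim
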