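import Groth.Agent.CovColim.Basic
import Groth.Agent.QCTopos.Site
import Mathlib.CategoryTheory.Limits.Constructions.Over.Products

/-!
The covering system of a collection of finite coverings on a site with fibre products.
-/

set_option backward.isDefEq.respectTransparency false
set_option backward.isDefEq.respectTransparency.types false
set_option linter.style.haveILetI false
set_option linter.unusedSectionVars false
set_option autoImplicit false
set_option maxHeartbeats 1000000

universe u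

namespace Groth.Agent.CovColim

open CategoryTheory Category Limits Opposite Abelian AlgebraicTopology Simplicial
open ToposFin
open Groth.Agent.QCTopos
open Groth.Agent.PullFlat (Loc univ rep_loc_surj rep_loc_inj)
open Groth.Agent.SiteCoh Groth.Agent.ToposColim

variable {C : Type u} [SmallCategory C] {J : GrothendieckTopology C}

lemma app_toEl_res {X : Sh J} {U V : C} (s : el X U) (g : V ⟶ U) : app (toEl s) (res g (univ J U)) = res g s := by
  rw [app_res, toEl_univ]

lemma εmap_comp {U V W : C} (a : U ⟶ V) (b : V ⟶ W) : εmap J (a ≫ b) = εmap J a ≫ εmap J b := by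
  show (presheafToSheaf J (Type u)).map _ = (presheafToSheaf J (Type u)).map _ ≫ (presheafToSheaf J (Type u)).map _
  rw [← Functor.map_comp, ← Functor.map_comp]

lemma loc_forall {κ : Type u} [Finite κ] {W : C} {P : κ → ∀ ⦃W' : C⦄, (W' ⟶ W) → Prop}
    (hP : ∀ k ⦃W' W'' : C⦄ (r : W' ⟶ W) (r' : W'' ⟶ W'), P k r → P k (r' ≫ r))
    (h : ∀ k, Loc J W (P k)) : Loc J W fun _ r => ∀ k, P k r := by
  classical
  cases nonempty_fintype κ
  suffices ∀ s : Finset κ, Loc J W fun _ r => ∀ k ∈ s, P k r from (this Finset.univ).mono fun _ r hr k => hr k (Finset.mem_univ k)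
  intro s
  induction s using Finset.induction_on with
  | empty => exact Loc.of_forall fun _ r k hk => absurd hk (Finset.notMem_empty k)
  | insert k s _ ih =>
    refine ih.bind fun W' r hr => ?_
    obtain ⟨S, hS, hS'⟩ := h k
    refine ⟨S.pullback r, J.pullback_stable r hS, fun W'' g hg l hl => ?_⟩
    rcases Finset.mem_insert.1 hl with rfl | hl
    · exact hS' _ hg
    · exact hP l r g (hr l hl)

section

variable {U : C} {ι : Type u} (Y : ι → Over U)

/-- the covering map -/
noncomputable def covMap : (∐ fun i => eps J (Y i).left) ⟶ eps J U := Sigma.desc fun i => εmap J (Y i).hom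

variable [HasPullbacks C]

variable (J) in
/-- the part of a term of the nerve given by a tuple of indices -/
noncomputable def part (n : ℕ) (a : Fin (n + 1) → ι) :
    eps J (∏ᶜ fun k => Y (a k)).left ⟶ widePullback (eps J U) (fun _ : Fin (n + 1) => ∐ fun i => eps J (Y i).left)
      fun _ => covMap (J := J) Y :=
  WidePullback.lift (εmap J (∏ᶜ fun k => Y (a k)).hom)
    (fun k => εmap J (Pi.π (fun k => Y (a k)) k).left ≫ Sigma.ι (fun i => eps J (Y i).left) (a k))
    (fun k => by rw [assoc, covMap, Sigma.ι_desc, ← εmap_comp, Over.w])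

lemma part_π (n : ℕ) (a : Fin (n + 1) → ι) (k : Fin (n + 1)) :
    part J Y n a ≫ WidePullback.π (fun _ : Fin (n + 1) => covMap (J := J) Y) k =
      εmap J (Pi.π (fun k => Y (a k)) k).left ≫ Sigma.ι (fun i => eps J (Y i).left) (a k) :=
  WidePullback.lift_π ..

lemma wide_el_ext {n : ℕ} {V : C}
    {p q : el (widePullback (eps J U) (fun _ : Fin (n + 1) => ∐ fun i => eps J (Y i).left) fun _ => covMap (J := J) Y) V}
    (h : ∀ k, app (WidePullback.π (fun _ : Fin (n + 1) => covMap (J := J) Y) k) p =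
      app (WidePullback.π (fun _ : Fin (n + 1) => covMap (J := J) Y) k) q) : p = q := by
  have e : toEl p = toEl q := by
    refine WidePullback.hom_ext _ _ _ (fun k => ?_) ?_
    · rw [toEl_comp, toEl_comp, h k]
    · rw [← WidePullback.π_arrow (fun _ : Fin (n + 1) => covMap (J := J) Y) 0, ← assoc, ← assoc]
      simp only [toEl_comp, h 0]
  rw [← toEl_univ p, ← toEl_univ q, e]

lemma part_eq_or_bot {n : ℕ} {a b : Fin (n + 1) → ι} {V : C} (p : el (eps J (∏ᶜ fun k => Y (a k)).left) V)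
    (q : el (eps J (∏ᶜ fun k => Y (b k)).left) V) (h : app (part J Y n a) p = app (part J Y n b) q) :
    (⊥ : Sieve V) ∈ J V ∨ ∃ e : a = b, e ▸ p = q := by
  classical
  have hk : ∀ k, app (Sigma.ι (fun i => eps J (Y i).left) (a k)) (app (εmap J (Pi.π (fun k => Y (a k)) k).left) p) =
      app (Sigma.ι (fun i => eps J (Y i).left) (b k)) (app (εmap J (Pi.π (fun k => Y (b k)) k).left) q) := fun k => by
    rw [← app_comp, ← app_comp, ← part_π, ← part_π, app_comp, app_comp, h]
  by_cases hab : a = b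
  · subst hab
    refine Or.inr ⟨rfl, el_ext ?_⟩
    refine (rep_loc_surj (L := J) (V := (∏ᶜ fun k => Y (a k)).left) p).bind ?_
    rintro V' r ⟨l, hl⟩
    refine (rep_loc_surj (L := J) (V := (∏ᶜ fun k => Y (a k)).left) (res r q)).bind ?_
    rintro V'' r' ⟨m, hm⟩
    let w : V'' ⟶ U := (r' ≫ l) ≫ (∏ᶜ fun k => Y (a k)).hom
    have hl' : res (r' ≫ l) (univ J (∏ᶜ fun k => Y (a k)).left) = res (r' ≫ r) p := by
      rw [← res_comp l r', ← res_comp r r']; exact congrArg (res r') hl
    have hm' : res m (univ J (∏ᶜ fun k => Y (a k)).left) = res (r' ≫ r) q := by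
      rw [← res_comp r r']; exact hm
    refine (loc_forall (P := fun (k : ULift.{u} (Fin (n + 1))) _ g => g ≫ (r' ≫ l) ≫ (Pi.π (fun k => Y (a k)) k.down).left = g ≫ m ≫ (Pi.π (fun k => Y (a k)) k.down).left)
      (fun k _ _ g g' e => by rw [assoc, e, assoc]) (fun k => ?_)).mono ?_
    · refine rep_loc_inj _ _ ?_
      refine (εmap_res _ _).symm.trans (Eq.trans ?_ (εmap_res _ _))
      exact (congrArg _ hl').trans ((app_res _ _ _).trans ((congrArg (res (r' ≫ r)) (sigma_ι_injective _ _ _ _ (hk k.down))).trans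
        ((app_res _ _ _).symm.trans (congrArg _ hm').symm)))
    · intro W g hg
      have hbase : (g ≫ r' ≫ l) ≫ (∏ᶜ fun k => Y (a k)).hom = (g ≫ m) ≫ (∏ᶜ fun k => Y (a k)).hom := by
        rw [← Over.w (Pi.π (fun k => Y (a k)) 0)]
        have := congrArg (· ≫ (Y (a 0)).hom) (hg ⟨0⟩)
        simpa only [assoc] using this
      have e : Over.homMk (U := Over.mk ((g ≫ r' ≫ l) ≫ (∏ᶜ fun k => Y (a k)).hom)) (g ≫ r' ≫ l) =
          Over.homMk (g ≫ m) hbase.symm := Pi.hom_ext _ _ fun k => Over.OverMorphism.ext (by simpa using hg ⟨k⟩)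
      have e' : g ≫ r' ≫ l = g ≫ m := congrArg Over.Hom.left e
      have h1 := congrArg (res g) hl'
      have h2 := congrArg (res g) hm'
      rw [res_comp, res_comp] at h1 h2
      change res ((g ≫ r') ≫ r) p = res ((g ≫ r') ≫ r) q
      rw [assoc]
      exact h1.symm.trans ((congrArg (fun z => res z (univ J (∏ᶜ fun k => Y (a k)).left)) e').trans h2)
  · obtain ⟨k, hk'⟩ : ∃ k, a k ≠ b k := by by_contra hc; push Not at hc; exact hab (funext hc)
    exact Or.inl (sigma_ι_disjoint _ (Ne.symm hk') _ _ (hk k))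

lemma part_js (n : ℕ) : JS fun a : Fin (n + 1) → ι => part J Y n a := by
  intro V s
  have h1 : Loc J V fun V' r => ∀ k : ULift.{u} (Fin (n + 1)), ∃ (i : ι) (l : V' ⟶ (Y i).left),
      app (Sigma.ι (fun i => eps J (Y i).left) i) (res l (univ J (Y i).left)) =
        res r (app (WidePullback.π (fun _ : Fin (n + 1) => covMap (J := J) Y) k.down) s) := by
    refine loc_forall (fun k V' V'' r r' ⟨i, l, hl⟩ => ⟨i, r' ≫ l, ?_⟩) fun k => ?_
    · rw [← res_comp l r', app_res, hl, res_comp]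
    · refine (js_sigma_ι (fun i => eps J (Y i).left) V (app (WidePullback.π (fun _ : Fin (n + 1) => covMap (J := J) Y) k.down) s)).bind ?_
      rintro V' r ⟨i, t, ht⟩
      refine (rep_loc_surj (L := J) (V := (Y i).left) t).mono ?_
      rintro V'' r' ⟨l, hl⟩
      exact ⟨i, l, (congrArg _ hl).trans ((app_res _ r' t).trans ((congrArg (res r') ht).trans (res_comp _ _ _)))⟩
  refine h1.bind ?_
  intro V' r hr
  choose i l hl using fun k : Fin (n + 1) => hr ⟨k⟩
  have hu : ∀ k, res (l k ≫ (Y (i k)).hom) (univ J U) =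
      res r (app (WidePullback.base (fun _ : Fin (n + 1) => covMap (J := J) Y)) s) := fun k => by
    rw [← WidePullback.π_arrow (fun _ : Fin (n + 1) => covMap (J := J) Y) k, app_comp, ← app_res, ← hl k, ← app_comp]
    simp only [covMap, Sigma.ι_desc]
    exact (εmap_res _ _).symm
  refine (loc_forall (P := fun k _ g => g ≫ l k.down ≫ (Y (i k.down)).hom = g ≫ l 0 ≫ (Y (i 0)).hom)
    (fun (k : ULift.{u} (Fin (n + 1))) _ _ g g' e => by rw [assoc, e, assoc])
    (fun k => rep_loc_inj _ _ ((hu k.down).trans (hu 0).symm))).mono ?_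
  intro W g hg
  let f : Over.mk (g ≫ l 0 ≫ (Y (i 0)).hom) ⟶ ∏ᶜ fun k => Y (i k) :=
    Pi.lift fun k => Over.homMk (g ≫ l k) ((assoc _ _ _).trans (hg ⟨k⟩))
  have hf : ∀ k, f.left ≫ (Pi.π (fun k => Y (i k)) k).left = g ≫ l k := fun k => by
    rw [← Over.comp_left, Pi.lift_π]; rfl
  refine ⟨i, res f.left (univ J _), wide_el_ext Y fun k => ?_⟩
  rw [← app_comp, part_π, app_comp]
  refine (congrArg _ ((εmap_res _ _).trans (congrArg (fun z => res z (univ J (Y (i k)).left)) (hf k)))).trans ?_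
  rw [← res_comp (l k) g, app_res]
  exact (congrArg (res g) (hl k)).trans ((res_comp _ _ _).trans (app_res _ _ _).symm)

lemma part_desc (n : ℕ) (Z : Sh J) (v : ∀ a : Fin (n + 1) → ι, eps J (∏ᶜ fun k => Y (a k)).left ⟶ Z) :
    ∃ g, ∀ a, part J Y n a ≫ g = v a := by
  refine exists_desc (part_js Y n) v fun a b => hom_ext_el fun V s => ?_
  rw [app_comp, app_comp]
  rcases part_eq_or_bot Y (app (pullback.fst (part J Y n a) (part J Y n b)) s)
    (app (pullback.snd (part J Y n a) (part J Y n b)) s) (pullback_el_condition (f := part J Y n a) (g := part J Y n b) s) with h | ⟨e, h⟩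
  · exact (el_subsingleton_of_bot h).elim _ _
  · subst e
    exact congrArg _ h

end

variable [HasPullbacks C] (B : Set C) (Cov : ∀ (U : C) (ι : Type u), (ι → Over U) → Prop)
  (h1 : ∀ (U : C) (ι : Type u) (Y : ι → Over U), Cov U ι Y → Finite ι ∧ U ∈ B ∧
    Sieve.ofArrows (fun i => (Y i).left) (fun i => (Y i).hom) ∈ J U ∧
    ∀ (p : ℕ) (a : Fin (p + 1) → ι), (∏ᶜ fun k => Y (a k)).left ∈ B)
  (h2 : ∀ U ∈ B, ∀ T ∈ J U, ∃ (ι : Type u) (Y : ι → Over U), Cov U ι Y ∧ ∀ i, T.arrows (Y i).hom)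

variable (J) in
/-- sheafified members -/
def EpsIn (L : Sh J) : Prop := ∃ V ∈ B, Nonempty (eps J V ≅ L)

variable (J) in
/-- coverings up to isomorphism -/
def IsCovMap' {L' L : Sh J} (t : L' ⟶ L) : Prop :=
  ∃ (U : C) (ι : Type u) (Y : ι → Over U) (e : eps J U ≅ L) (e' : L' = ∐ fun i => eps J (Y i).left),
    Cov U ι Y ∧ t = eqToHom e' ≫ covMap Y ≫ e.hom

include h1 h2 in
theorem covSys_site : CovSys (EpsIn J B) (fun {L'} {L} (t : L' ⟶ L) => IsCovMap' J Cov t) where
  qc L hL := by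
    obtain ⟨V, hV, ⟨e⟩⟩ := hL
    refine qc_of_iso e ((qc_eps_iff V).2 fun S hS => ?_)
    obtain ⟨ι, Y, hY, hT⟩ := h2 V hV S hS
    obtain ⟨hfin, -, hmem, -⟩ := h1 V ι Y hY
    cases nonempty_fintype ι
    let q := Fintype.equivFin ι
    refine ⟨Fintype.card ι, fun k => (Y (q.symm k)).left, fun k => (Y (q.symm k)).hom, fun k => hT _, J.superset_covering ?_ hmem⟩
    intro W g hg
    obtain ⟨i, a, ha⟩ := (Sieve.mem_ofArrows_iff ..).1 hg
    obtain ⟨k, rfl⟩ := q.symm.surjective i
    exact (Sieve.mem_ofArrows_iff ..).2 ⟨k, a, ha⟩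
  nerve {L' L} t ht n := by
    obtain ⟨U, ι, Y, e, rfl, hY, rfl⟩ := ht
    obtain ⟨hfin, -, -, hB⟩ := h1 U ι Y hY
    let w := fun _ : Fin (n + 1) => eqToHom (rfl : (∐ fun i => eps J (Y i).left) = _) ≫ covMap Y ≫ e.hom
    let i₁ : widePullback L (fun _ : Fin (n + 1) => ∐ fun i => eps J (Y i).left) w ≅
        widePullback (eps J U) (fun _ : Fin (n + 1) => ∐ fun i => eps J (Y i).left) fun _ => covMap (J := J) Y :=
      { hom := WidePullback.lift (WidePullback.base w ≫ e.inv) (fun k => WidePullback.π w k) (fun k => by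
          rw [← WidePullback.π_arrow w k]; simp [w])
        inv := WidePullback.lift (WidePullback.base _ ≫ e.hom) (fun k => WidePullback.π _ k) (fun k => by
          simp [w])
        hom_inv_id := WidePullback.hom_ext _ _ _ (fun k => by simp) (by simp)
        inv_hom_id := WidePullback.hom_ext _ _ _ (fun k => by simp) (by simp) }
    haveI : IsIso i₁.inv := ⟨i₁.hom, i₁.inv_hom_id, i₁.hom_inv_id⟩
    refine ⟨Fin (n + 1) → ι, inferInstance, fun a => eps J (∏ᶜ fun k => Y (a k)).left,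
      fun a => part J Y n a ≫ i₁.inv, fun a => ⟨_, hB n a, ⟨Iso.refl _⟩⟩, (part_js Y n).postcomp_epi i₁.inv, fun Z v => ?_⟩
    obtain ⟨g, hg⟩ := part_desc Y n Z v
    exact ⟨i₁.hom ≫ g, fun a => by rw [assoc, i₁.inv_hom_id_assoc, hg]⟩
  refine {L} hL {P} p hp := by
    obtain ⟨V, hV, ⟨e⟩⟩ := hL
    haveI := hp
    let p' := p ≫ e.inv
    obtain ⟨S, hS, hS'⟩ := js_of_epi.{u, u} p' V (univ J V)
    obtain ⟨ι, Y, hY, hT⟩ := h2 V hV S hS
    obtain ⟨-, -, hmem, -⟩ := h1 V ι Y hY
    choose x y hy using fun i => hS' _ (hT i)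
    refine ⟨∐ fun i => eps J (Y i).left, covMap Y ≫ e.hom, Sigma.desc fun i => toEl (y i), ?_, ?_,
      ⟨V, ι, Y, e, rfl, hY, by simp⟩⟩
    · refine Sigma.hom_ext _ _ fun i => ?_
      have : toEl (y i) ≫ p' = εmap J (Y i).hom := toEl_ext (by
        rw [app_comp, toEl_univ, εmap_univ]; exact hy i)
      rw [Sigma.ι_desc_assoc, covMap, Sigma.ι_desc_assoc, ← this]
      simp [p']
    · haveI : Epi (covMap (J := J) Y) := epi_desc_iff.2 (js_εmap _ _ hmem)
      exact epi_comp _ _

variable (J) in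
/-- the free sheaf on a representable -/
theorem exists_freeSheaf_iso (U : C) : Nonempty (CohCx.freeSheaf J U ≅ (FR J).obj (eps J U)) := by
  let a : ∀ H : Sheaf J AddCommGrpCat.{u}, ((FR J).obj (eps J U) ⟶ H) ≃ H.obj.obj (op U) := fun H =>
    (frHom (eps J U) H).trans (repEquiv U ((uSet J).obj H))
  let b : ∀ H : Sheaf J AddCommGrpCat.{u}, (CohCx.freeSheaf J U ⟶ H) ≃ H.obj.obj (op U) := fun H =>
    (freeHom J (yoneda.obj U) H).trans yonedaEquiv
  have ha : ∀ {H H' : Sheaf J AddCommGrpCat.{u}} (φ : (FR J).obj (eps J U) ⟶ H) (g : H ⟶ H'),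
      a H' (φ ≫ g) = g.hom.app (op U) (a H φ) := fun φ g => by
    show repEquiv U _ (frHom _ _ (φ ≫ g)) = _
    rw [frHom_comp, repEquiv_comp]
    rfl
  have hb : ∀ {H H' : Sheaf J AddCommGrpCat.{u}} (φ : CohCx.freeSheaf J U ⟶ H) (g : H ⟶ H'),
      b H' (φ ≫ g) = g.hom.app (op U) (b H φ) := fun φ g => by
    show yonedaEquiv (freeHom J _ _ (φ ≫ g)) = _
    rw [freeHom_comp, yonedaEquiv_comp]
    rfl
  let f := (b ((FR J).obj (eps J U))).symm (a _ (𝟙 _))
  let g := (a (CohCx.freeSheaf J U)).symm (b _ (𝟙 _))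
  refine ⟨⟨f, g, (b _).injective ?_, (a _).injective ?_⟩⟩
  · rw [hb, show b _ f = a _ (𝟙 _) from Equiv.apply_symm_apply _ _, ← ha, id_comp]
    exact Equiv.apply_symm_apply _ _
  · rw [ha, show a _ g = b _ (𝟙 _) from Equiv.apply_symm_apply _ _, ← hb, id_comp]
    exact Equiv.apply_symm_apply _ _

include h1 h2 in
theorem preservesColimit_site (U : C) (hU : U ∈ B) (p : ℕ) (I : Type u) [SmallCategory I] [IsFiltered I] :
    PreservesColimitsOfShape I ((Sheaf.cohomologyPresheafFunctor J p).flip.obj (op U)) := by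
  haveI := preservesColimitsOfShape_hk (Λ := I) (covSys_site B Cov h1 h2) (L := eps J U) ⟨U, hU, ⟨Iso.refl _⟩⟩ p
  obtain ⟨e⟩ := exists_freeSheaf_iso J U
  exact preservesColimitsOfShape_of_natIso (F := ToposFin.HKFunctor (eps J U) p)
    ((Abelian.extFunctor.{u} p).mapIso e.op ≪≫ NatIso.ofComponents (fun F => Iso.refl _) (fun {F G} f => by
      apply AddCommGrpCat.hom_ext
      ext x
      rfl))

end Groth.Agent.CovColim
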